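import Cfsg.Agent.Coset.ThreeTransp
import Cfsg.Agent.Coset.Chain

/-!
A class of involutions that corresponds to the points of a permutation representation: the
involution of a point, and its evaluation by words.
-/

set_option autoImplicit false

namespace CfsgLib.Coset.TransOut

open CfsgLib.Coset

section Kernel

/-- The path to a point along parent links. -/
noncomputable def path (Par : Nat → Nat) (fuel : Nat) : Nat → List Nat → List Nat :=
  Nat.rec (fun _ acc => acc)
    (fun _ ih i acc => cond (Nat.beq i 0) acc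
      (ih (field (Par i) 0) (field (Par i) 1 :: acc))) fuel

/-- The path to a point. -/
noncomputable def pw (Par : Nat → Nat) (i : Nat) : List Nat := path Par 96 i []

/-- The word of the involution of a point. -/
noncomputable def tw (Par : Nat → Nat) (zw : List Nat) (i : Nat) : List Nat :=
  (pw Par i).reverse ++ zw ++ pw Par i

/-- The path ends at the point. -/
noncomputable def good (Tb Par : Nat → Nat) (k i : Nat) : Bool :=
  cond (allList (fun x => Nat.ble (Nat.add x 1) k) (pw Par i))
    (Nat.beq (follow (tget Tb) 0 (pw Par i)) i) false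

/-- The image of a point under the involution of a point. -/
noncomputable def sigv (Tb Par : Nat → Nat) (zw : List Nat) (i j : Nat) : Nat :=
  follow (tget Tb) j (tw Par zw i)

end Kernel

/-- The hypotheses on the class. -/
structure Class {G : Type*} [Group G] (L : List G) {n : Nat} (ρ : G →* Equiv.Perm (Fin n))
    (Tb : Nat → Nat) (zw : List Nat) (o : Fin n) : Prop where
  hm : Matches L ρ Tb
  inj : Function.Injective ρ
  ho : o.val = 0
  hz : ∀ l ∈ zw, l < L.length
  sq : ∀ x, fl L x * fl L x = 1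
  order_t : orderOf (ev L zw) = 2
  cent : Subgroup.centralizer ({ev L zw} : Set G) = pstab ρ o
  trans : ∀ i, ∃ g, ρ g o = i

variable {G : Type*} [Group G] {L : List G} {n : Nat} {ρ : G →* Equiv.Perm (Fin n)}
  {Tb Par : Nat → Nat} {zw : List Nat} {o : Fin n}

namespace Class

variable (hc : Class L ρ Tb zw o)
include hc

/-- The involution of a point. -/
noncomputable def dT (i : Fin n) : G :=
  (hc.trans i).choose * ev L zw * (hc.trans i).choose⁻¹

theorem commute_t_iff (g : G) : g * ev L zw = ev L zw * g ↔ ρ g o = o := by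
  rw [← Subgroup.mem_centralizer_singleton_iff, hc.cent, mem_pstab]

theorem dT_eq {g : G} {i : Fin n} (h : ρ g o = i) : g * ev L zw * g⁻¹ = hc.dT i := by
  have h' := (hc.trans i).choose_spec
  have hs : ρ ((hc.trans i).choose⁻¹ * g) o = o := by
    rw [map_mul, map_inv, Equiv.Perm.mul_apply, h, Equiv.Perm.inv_def, Equiv.symm_apply_eq, h']
  have hcomm := (hc.commute_t_iff _).mpr hs
  calc g * ev L zw * g⁻¹
      = (hc.trans i).choose * (((hc.trans i).choose⁻¹ * g) * ev L zw) * g⁻¹ := by group
    _ = (hc.trans i).choose * (ev L zw * ((hc.trans i).choose⁻¹ * g)) * g⁻¹ := by rw [hcomm]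
    _ = hc.dT i := by rw [dT]; group

theorem dT_o : hc.dT o = ev L zw := by
  rw [← hc.dT_eq (g := 1) (by simp)]
  simp

theorem conj_dT (g : G) (i : Fin n) : g * hc.dT i * g⁻¹ = hc.dT (ρ g i) := by
  obtain ⟨a, ha⟩ := hc.trans i
  rw [← hc.dT_eq ha, ← hc.dT_eq (g := g * a) (by rw [map_mul, Equiv.Perm.mul_apply, ha])]
  group

theorem dT_inj {i j : Fin n} (h : hc.dT i = hc.dT j) : i = j := by
  obtain ⟨a, ha⟩ := hc.trans i
  obtain ⟨b, hb⟩ := hc.trans j
  rw [← hc.dT_eq ha, ← hc.dT_eq hb] at h
  have : (b⁻¹ * a) * ev L zw = ev L zw * (b⁻¹ * a) := by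
    calc (b⁻¹ * a) * ev L zw = b⁻¹ * (a * ev L zw * a⁻¹) * a := by group
      _ = b⁻¹ * (b * ev L zw * b⁻¹) * a := by rw [h]
      _ = _ := by group
  have hs := (hc.commute_t_iff _).mp this
  rw [map_mul, map_inv, Equiv.Perm.mul_apply, ha, Equiv.Perm.inv_def, Equiv.symm_apply_eq, hb] at hs
  exact hs

theorem comm_dT_iff (g : G) (i : Fin n) : g * hc.dT i = hc.dT i * g ↔ ρ g i = i := by
  constructor
  · intro h
    refine hc.dT_inj ?_
    rw [← hc.conj_dT, h]
    group
  · intro h
    calc g * hc.dT i = (g * hc.dT i * g⁻¹) * g := by group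
      _ = _ := by rw [hc.conj_dT, h]

theorem orderOf_dT (i : Fin n) : orderOf (hc.dT i) = 2 := by
  obtain ⟨a, ha⟩ := hc.trans i
  rw [← hc.dT_eq ha]
  exact (MulEquiv.orderOf_eq (MulAut.conj a) _).trans hc.order_t

theorem dT_inv (i : Fin n) : (hc.dT i)⁻¹ = hc.dT i := by
  rw [inv_eq_iff_mul_eq_one, ← pow_two, ← hc.orderOf_dT i, pow_orderOf_eq_one]

theorem sig_symm (i : Fin n) : (ρ (hc.dT i))⁻¹ = ρ (hc.dT i) := by
  rw [← map_inv, hc.dT_inv]

/-- Equivariance of the action of the involutions. -/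
theorem act_equiv (g : G) (i j : Fin n) :
    ρ g (ρ (hc.dT i) j) = ρ (hc.dT (ρ g i)) (ρ g j) := by
  rw [← hc.conj_dT, map_mul, map_mul, Equiv.Perm.mul_apply, Equiv.Perm.mul_apply, map_inv,
    Equiv.Perm.inv_def, Equiv.symm_apply_apply]

omit hc in
theorem ev_reverse' (sq : ∀ x, fl L x * fl L x = 1) (w : List Nat) :
    ev L w.reverse = (ev L w)⁻¹ := by
  induction w with
  | nil => simp
  | cons l w ih =>
    rw [List.reverse_cons, ev_append, ih]
    simp [mul_inv_rev, inv_eq_of_mul_eq_one_right (sq l)]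

theorem good_letters {i : Nat} (hg : good Tb Par L.length i = true) :
    ∀ l ∈ pw Par i, l < L.length := by
  rw [good, cond_false_eq_true] at hg
  exact fun l hl => Nat.ble_eq.mp (allList_iff.mp hg.1 l hl)

theorem dT_eq_ev (i : Fin n) (hg : good Tb Par L.length i.val = true) :
    hc.dT i = ev L (tw Par zw i.val) := by
  have hl := hc.good_letters hg
  rw [good, cond_false_eq_true] at hg
  have hi : ρ (ev L (pw Par i.val))⁻¹ o = i := by
    rw [map_inv]
    refine Fin.ext ?_
    rw [hc.hm.follow_eq _ _ hl, hc.ho]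
    exact Nat.eq_of_beq_eq_true hg.2
  rw [tw, ev_append, ev_append, ev_reverse' hc.sq, ← hc.dT_eq hi, inv_inv]

theorem sigv_eq (i j : Fin n) (hg : good Tb Par L.length i.val = true) :
    (ρ (hc.dT i) j : Nat) = sigv Tb Par zw i.val j.val := by
  have hl := hc.good_letters hg
  have hl' : ∀ l ∈ tw Par zw i.val, l < L.length := by
    intro l h
    simp only [tw, List.mem_append, List.mem_reverse] at h
    rcases h with (h | h) | h
    exacts [hl l h, hc.hz l h, hl l h]
  rw [sigv, ← hc.hm.follow_eq _ _ hl', ← hc.dT_eq_ev i hg, hc.sig_symm]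

theorem exists_dT {d : G} (hd : IsConj (ev L zw) d) : ∃ i, d = hc.dT i := by
  obtain ⟨g, rfl⟩ := isConj_iff.mp hd
  exact ⟨_, hc.dT_eq rfl⟩

theorem isConj_dT (i : Fin n) : IsConj (ev L zw) (hc.dT i) := by
  obtain ⟨a, ha⟩ := hc.trans i
  exact isConj_iff.mpr ⟨a, hc.dT_eq ha⟩

end Class

end CfsgLib.Coset.TransOut
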