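import Cfsg.Agent.Coset.TransOut.Fix
import Cfsg.Prelude.Def_KGroupFacts

/-!
Automorphisms of a group with such a class: the class is preserved, and the images of the
generators are normalised one at a time.
-/

set_option autoImplicit false

namespace CfsgLib.Coset.TransOut

open CfsgLib.Coset
open scoped Pointwise

section Kernel

/-- A point has the prescribed commuting pattern with the earlier generators. -/
noncomputable def patt (Tb : Nat → Nat) (pre : List (Nat × Nat × Bool)) (r : Nat) : Bool :=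
  allList (fun e => cond (Nat.beq r e.2.1) false
    (Bool.rec (motive := fun _ => Bool) (!Nat.beq (tget Tb r e.1) r) (Nat.beq (tget Tb r e.1) r)
      e.2.2)) pre

/-- The prescribed pattern is the one of the generator. -/
noncomputable def pattOK (Tb : Nat → Nat) (pre : List (Nat × Nat × Bool)) (p : Nat) : Bool :=
  patt Tb pre p

/-- Every candidate is in the orbit list. -/
noncomputable def checkCand (Tb : Nat → Nat) (n dn : Nat) (pre : List (Nat × Nat × Bool)) (m : Nat)
    (P Inv : Nat → Nat) : Bool :=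
  allBelow dn n fun r => cond (patt Tb pre r)
    (cond (Nat.ble (Nat.add (field (Inv r) 0) 1) m) (Nat.beq (opt P (field (Inv r) 0)) r) false) true

/-- Every candidate is listed. -/
noncomputable def checkCandList (Tb : Nat → Nat) (n dn : Nat) (pre : List (Nat × Nat × Bool))
    (cs : List Nat) : Bool :=
  allBelow dn n fun r => cond (patt Tb pre r) (cs.any (Nat.beq r)) true

end Kernel

variable {G : Type*} [Group G] {L : List G} {n : Nat} {ρ : G →* Equiv.Perm (Fin n)}
  {Tb : Nat → Nat} {zw uw : List Nat} {o : Fin n}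

namespace Class

variable (hc : Class L ρ Tb zw o)
include hc

/-- Some conjugate of the image of the fixed involution commutes with `u`. -/
theorem exists_commute [Finite G] {p : Nat} [Fact p.Prime] (hu : orderOf (ev L uw) = p)
    (hcard : ¬ p ^ 2 ∣ Nat.card G) (hut : ev L uw * ev L zw = ev L zw * ev L uw) (φ : MulAut G) :
    ∃ g : G, g * φ (ev L zw) * g⁻¹ * ev L uw = ev L uw * (g * φ (ev L zw) * g⁻¹) := by
  set u := ev L uw
  set t := ev L zw
  have hv : orderOf (φ u) = p := (MulEquiv.orderOf_eq φ u).trans hu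
  have hfac : (Nat.card G).factorization p = 1 := by
    have hne : Nat.card G ≠ 0 := Nat.card_pos.ne'
    have hpd : p ∣ Nat.card G := hu ▸ orderOf_dvd_natCard u
    have h1 := (Fact.out : p.Prime).dvd_iff_one_le_factorization hne |>.mp hpd
    have h2 : ¬ 2 ≤ (Nat.card G).factorization p := fun h =>
      hcard (((Fact.out : p.Prime).pow_dvd_iff_le_factorization hne).mpr h)
    omega
  have hz : ∀ w : G, orderOf w = p → ∃ P : Sylow p G, (P : Subgroup G) = Subgroup.zpowers w :=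
    fun w hw => ⟨Sylow.ofCard (Subgroup.zpowers w) (by
      rw [Nat.card_zpowers, hw, hfac, pow_one]), by simp⟩
  obtain ⟨P, hP⟩ := hz u hu
  obtain ⟨Q, hQ⟩ := hz (φ u) hv
  obtain ⟨g, hg⟩ := MulAction.exists_smul_eq G Q P
  refine ⟨g, ?_⟩
  have hmem : u ∈ (MulAut.conj g • (Subgroup.zpowers (φ u)) : Subgroup G) := by
    rw [← hQ, ← Sylow.coe_subgroup_smul, hg, hP]
    exact Subgroup.mem_zpowers u
  obtain ⟨v, hv', hve⟩ := hmem
  obtain ⟨i, rfl⟩ := Subgroup.mem_zpowers_iff.mp hv'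
  have hc1 : Commute (φ t) (φ u ^ i) := by
    have : Commute (φ t) (φ u) := (show Commute t u from hut.symm).map φ
    exact this.zpow_right i
  have e : u = g * φ u ^ i * g⁻¹ := hve.symm
  rw [e]
  have := hc1.eq
  calc g * φ t * g⁻¹ * (g * φ u ^ i * g⁻¹) = g * (φ t * φ u ^ i) * g⁻¹ := by group
    _ = g * (φ u ^ i * φ t) * g⁻¹ := by rw [this]
    _ = _ := by group

/-- An involution commuting with `u` is in the class, given representatives of the fixed points. -/
theorem isConj_of_commute {F : List Nat} {dn : Nat} (huw : ∀ l ∈ uw, l < L.length)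
    (hF : checkFixU Tb uw n dn F = true)
    (hperm : ∀ x : G, x * x = 1 → (∀ f ∈ F, ∀ h : f < n, (ρ x ⟨f, h⟩).val ∈ F) →
      ∃ f ∈ F, ∃ h : f < n, ρ x ⟨f, h⟩ = ⟨f, h⟩)
    (hmove : ∀ f ∈ F, ∀ h : f < n, ∃ s : G, ρ s ⟨f, h⟩ = o ∧ s * ev L uw = ev L uw * s)
    (hFu : ∀ f ∈ F, ∀ h : f < n, ρ (ev L uw) ⟨f, h⟩ = ⟨f, h⟩)
    (hfix : ∀ {x : G}, x * x = 1 → x ≠ 1 → ρ x o = o → x * ev L uw = ev L uw * x → x = ev L zw)
    {x : G} (hx2 : x * x = 1) (hx1 : x ≠ 1) (hxu : x * ev L uw = ev L uw * x) :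
    IsConj (ev L zw) x := by
  set u := ev L uw with hudef
  have hperm' : ∀ f ∈ F, ∀ h : f < n, (ρ x ⟨f, h⟩).val ∈ F := by
    intro f hf h
    have e : ρ u (ρ x ⟨f, h⟩) = ρ x ⟨f, h⟩ := by
      rw [← Equiv.Perm.mul_apply, ← map_mul, ← hxu, map_mul, Equiv.Perm.mul_apply, hFu f hf h]
    have hb := of_allBelow hF (ρ x ⟨f, h⟩).val (ρ x ⟨f, h⟩).isLt
    have hf' : Nat.beq (follow (tget Tb) (ρ x ⟨f, h⟩).val uw) (ρ x ⟨f, h⟩).val = true := by
      rw [Nat.beq_eq, ← hc.hm.follow_eq uw _ huw, ← hudef, Fin.val_inj, Equiv.Perm.inv_def,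
        Equiv.symm_apply_eq, e]
    rw [hf', cond_true] at hb
    exact hc.any_beq hb
  obtain ⟨f, hf, h, hfx⟩ := hperm x hx2 hperm'
  obtain ⟨s, hs, hsu⟩ := hmove f hf h
  have h1 : (s * x * s⁻¹) * (s * x * s⁻¹) = 1 := by
    calc (s * x * s⁻¹) * (s * x * s⁻¹) = s * (x * x) * s⁻¹ := by group
      _ = 1 := by rw [hx2]; group
  have hcs : Commute s u := hsu
  have h2 : (s * x * s⁻¹) * u = u * (s * x * s⁻¹) :=
    ((hcs.mul_left (show Commute x u from hxu)).mul_left hcs.inv_left).eq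
  have h3 : ρ (s * x * s⁻¹) o = o := by
    rw [map_mul, map_mul, Equiv.Perm.mul_apply, Equiv.Perm.mul_apply, map_inv,
      show (ρ s)⁻¹ o = ⟨f, h⟩ from by rw [Equiv.Perm.inv_def, Equiv.symm_apply_eq, hs], hfx, hs]
  have h4 := hfix h1 (fun e => hx1 (by
    calc x = s⁻¹ * (s * x * s⁻¹) * s := by group
      _ = 1 := by rw [e]; group)) h3 h2
  exact isConj_iff.mpr ⟨s⁻¹, by rw [← h4]; group⟩

/-- The images of the generators keep their commuting pattern. -/
theorem patt_image {φ : MulAut G} {pre : List (Nat × Nat × Bool)} {l : Nat} {p j : Fin n}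
    (hlt : ∀ e ∈ pre, e.1 < L.length)
    (hpre : ∀ e ∈ pre, ∃ h : e.2.1 < n, fl L e.1 = hc.dT ⟨e.2.1, h⟩)
    (hfix : ∀ e ∈ pre, φ (fl L e.1) = fl L e.1)
    (hp : fl L l = hc.dT p) (hpat : patt Tb pre p.val = true) (hj : φ (fl L l) = hc.dT j) :
    patt Tb pre j.val = true := by
  rw [patt, allList_iff] at hpat ⊢
  intro e he
  obtain ⟨h, hd⟩ := hpre e he
  have hp' := hpat e he
  have hne : ∀ r : Fin n, r.val ≠ e.2.1 → Nat.beq r.val e.2.1 = false := fun r hr => by
    rw [← Bool.not_eq_true, Nat.beq_eq]; exact hr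
  have hbeq : ∀ r : Fin n, Nat.beq (tget Tb r.val e.1) r.val = true ↔
      fl L e.1 * hc.dT r = hc.dT r * fl L e.1 := by
    intro r
    rw [Nat.beq_eq, ← hc.hm e.1 (hlt e he) r, Fin.val_inj, Equiv.Perm.inv_def, Equiv.symm_apply_eq,
      hc.comm_dT_iff]
    exact eq_comm
  by_cases hpe : p.val = e.2.1
  · rw [show Nat.beq p.val e.2.1 = true from by rw [Nat.beq_eq]; exact hpe] at hp'
    simp at hp'
  rw [hne p hpe, cond_false] at hp'
  have hje : j.val ≠ e.2.1 := by
    intro h2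
    have e1 : φ (fl L l) = φ (fl L e.1) := by
      rw [hj, hfix e he, hd, show j = ⟨e.2.1, h⟩ from Fin.ext h2]
    have := φ.injective e1
    rw [hp, hd] at this
    exact hpe (congrArg Fin.val (hc.dT_inj this))
  rw [hne j hje, cond_false]
  have key : Nat.beq (tget Tb j.val e.1) j.val = Nat.beq (tget Tb p.val e.1) p.val := by
    rw [Bool.eq_iff_iff, hbeq, hbeq]
    constructor
    · intro hh
      refine φ.injective ?_
      rw [map_mul, map_mul, hfix e he, ← hp, hj]
      exact hh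
    · intro hh
      have := congrArg φ hh
      rwa [map_mul, map_mul, hfix e he, ← hp, hj] at this
  rw [key]
  exact hp'

/-- One more generator is fixed after conjugation, and the orbit bounds the stabiliser. -/
theorem step [Finite G] {pre : List (Nat × Nat × Bool)} {base : List (Fin n)} {l : Nat} {p : Fin n}
    {dn m dm : Nat} {gens : List (List Nat)} {P Inv : Nat → Nat}
    (hlt : ∀ e ∈ pre, e.1 < L.length)
    (hpre : ∀ e ∈ pre, ∃ h : e.2.1 < n, fl L e.1 = hc.dT ⟨e.2.1, h⟩)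
    (hbase : base.map Fin.val = pre.map fun e => e.2.1)
    (hp : fl L l = hc.dT p)
    (hpat : pattOK Tb pre p.val = true)
    (hgl : checkLetters L.length gens = true) (hgf : checkFix Tb (base.map Fin.val) gens = true)
    (horb : checkOrbit Tb p m dm gens P Inv = true)
    (hcand : checkCand Tb n dn pre m P Inv = true)
    (φ : MulAut G) (hfix : ∀ e ∈ pre, φ (fl L e.1) = fl L e.1)
    (hD : IsConj (ev L zw) (φ (fl L l))) :
    ∃ g : G, (∀ e ∈ pre, g * φ (fl L e.1) * g⁻¹ = fl L e.1) ∧ g * φ (fl L l) * g⁻¹ = fl L l := by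
  obtain ⟨j, hj⟩ := hc.exists_dT hD
  have hjp := hc.patt_image hlt hpre hfix hp hpat hj
  have h := of_allBelow hcand j.val j.isLt
  rw [hjp, cond_true, cond_false_eq_true] at h
  obtain ⟨x, hx, hxe⟩ := (hc.hm.orbit_le horb hgl (hc.hm.ev_mem_baseStab hgl hgf)).2 _
    (Nat.ble_eq.mp h.1)
  have hxj : x = j := Fin.ext (hxe.trans (Nat.eq_of_beq_eq_true h.2))
  obtain ⟨g, hg, hge⟩ := hxj ▸ hx
  refine ⟨g⁻¹, fun e he => ?_, ?_⟩
  · obtain ⟨hh, hd⟩ := hpre e he
    rw [hfix e he, hd]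
    have : ρ g⁻¹ ⟨e.2.1, hh⟩ = ⟨e.2.1, hh⟩ := by
      have hmem : e.2.1 ∈ base.map Fin.val := hbase ▸ List.mem_map.mpr ⟨e, he, rfl⟩
      obtain ⟨b, hb, hbe⟩ := List.mem_map.mp hmem
      have hb' : b = ⟨e.2.1, hh⟩ := Fin.ext hbe
      exact mem_pstab.mp (hb' ▸ ((mem_foldl_inf base ⊤).mp (Subgroup.inv_mem _ hg)).2 b hb)
    rw [hc.conj_dT, this]
  · rw [hj, hp, hc.conj_dT, ← hge, map_inv, Equiv.Perm.inv_def, Equiv.symm_apply_apply]

/-- The last generator has one of the listed images. -/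
theorem last_step {pre : List (Nat × Nat × Bool)} {l : Nat} {p : Fin n} {dn : Nat} {cs : List Nat}
    (hlt : ∀ e ∈ pre, e.1 < L.length)
    (hpre : ∀ e ∈ pre, ∃ h : e.2.1 < n, fl L e.1 = hc.dT ⟨e.2.1, h⟩)
    (hp : fl L l = hc.dT p)
    (hpat : pattOK Tb pre p.val = true) (hcand : checkCandList Tb n dn pre cs = true)
    (φ : MulAut G) (hfix : ∀ e ∈ pre, φ (fl L e.1) = fl L e.1)
    (hD : IsConj (ev L zw) (φ (fl L l))) :
    ∃ c ∈ cs, ∃ h : c < n, φ (fl L l) = hc.dT ⟨c, h⟩ := by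
  obtain ⟨j, hj⟩ := hc.exists_dT hD
  have hjp := hc.patt_image hlt hpre hfix hp hpat hj
  have h := of_allBelow hcand j.val j.isLt
  rw [hjp, cond_true] at h
  exact ⟨j.val, hc.any_beq h, j.isLt, hj⟩

/-- The whole class is preserved. -/
theorem isConj_image {φ : MulAut G} (h : IsConj (ev L zw) (φ (ev L zw))) {d : G}
    (hd : IsConj (ev L zw) d) : IsConj (ev L zw) (φ d) :=
  h.trans (φ.toMonoidHom.map_isConj hd)

end Class

end CfsgLib.Coset.TransOut
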