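import Cfsg.Agent.Coset.TransOut.Basic
import Mathlib.GroupTheory.Sylow

/-!
Automorphisms preserve the class: an element of prime order that commutes with the fixed
involution, its centraliser being read off from the action.
-/

set_option autoImplicit false

namespace CfsgLib.Coset.TransOut

open CfsgLib.Coset

section Kernel

variable (Tb Par : Nat → Nat) (zw uw : List Nat)

/-- All fixed points of `u` are listed. -/
noncomputable def checkFixU (n dn : Nat) (F : List Nat) : Bool :=
  allBelow dn n fun i => cond (Nat.beq (follow (tget Tb) i uw) i) (F.any (Nat.beq i)) true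

/-- The point of a cycle. -/
noncomputable def cy (C : Nat → Nat) (pr r a : Nat) : Nat :=
  field (C (Nat.add (Nat.mul r pr) a)) 0

/-- The neighbours of the fixed point are in the cycles of `u`. -/
noncomputable def checkCycles (n dn m dm pr : Nat) (C CI : Nat → Nat) : Bool :=
  cond (allBelow dm m fun r => allList (fun a =>
      cond (Nat.ble (Nat.add (cy C pr r a) 1) n)
        (Nat.beq (follow (tget Tb) (cy C pr r a) uw)
          (cy C pr r (cond (Nat.beq (Nat.add a 1) pr) 0 (Nat.add a 1)))) false) (List.range pr))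
    (allBelow dn n fun j => cond (Nat.beq j 0) true
      (cond (Nat.beq (follow (tget Tb) j zw) j)
        (cond (Nat.ble (Nat.add (field (CI j) 0) 1) m)
          (cond (Nat.ble (Nat.add (field (CI j) 1) 1) pr)
            (Nat.beq (cy C pr (field (CI j) 0) (field (CI j) 1)) j) false) false) true)) false

/-- Whether the image of one point of the cycle under another commutes with the first. -/
noncomputable def fval (C : Nat → Nat) (pr r a b : Nat) : Bool :=
  Nat.beq (sigv Tb Par zw (cy C pr r 0) (sigv Tb Par zw (cy C pr r a) (cy C pr r b)))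
    (sigv Tb Par zw (cy C pr r a) (cy C pr r b))

/-- The commuting pattern of a point with a cycle. -/
noncomputable def pat (C : Nat → Nat) (pr r y a : Nat) : Bool :=
  Nat.beq (sigv Tb Par zw (cy C pr r a) y) y

/-- A test that separates a cycle from the chosen one. -/
inductive Sep where
  | pair (a b : Nat)
  | point (p : Nat)

/-- The separation of a cycle. -/
noncomputable def checkSep (k n dn : Nat) (C : Nat → Nat) (pr qi r : Nat) : Sep → Bool
  | .pair a b =>
    Nat.ble (Nat.add a 1) pr && Nat.ble (Nat.add b 1) pr &&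
      allList (fun c => good Tb Par k c)
        [cy C pr r 0, cy C pr r a, cy C pr qi 0, cy C pr qi a] &&
      !(fval Tb Par zw C pr r a b == fval Tb Par zw C pr qi a b)
  | .point p =>
    Nat.ble (Nat.add p 1) n &&
      allList (fun a => good Tb Par k (cy C pr r a) && good Tb Par k (cy C pr qi a))
        (List.range pr) &&
      allBelow dn n fun y =>
        !(allList (fun a => pat Tb Par zw C pr r y a == pat Tb Par zw C pr qi p a) (List.range pr))

/-- Every cycle other than the chosen one is separated from it. -/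
noncomputable def checkSeps (k n dn m dm : Nat) (C : Nat → Nat) (pr qi : Nat)
    (cert : Nat → Sep) : Bool :=
  allBelow dm m fun r => cond (Nat.beq r qi) true (checkSep Tb Par zw k n dn C pr qi r (cert r))

/-- The closure steps. -/
noncomputable def checkDag (k n : Nat) : List (Nat × Nat × Nat) → List Nat → List Nat → Bool
  | [], known, targets => allList (fun t => known.any (Nat.beq t)) targets
  | (p, q, r) :: rest, known, targets =>
    known.any (Nat.beq p) && known.any (Nat.beq q) && Nat.ble (Nat.add r 1) n &&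
      good Tb Par k p && Nat.beq (sigv Tb Par zw p q) r &&
      checkDag k n rest (r :: known) targets

end Kernel

variable {G : Type*} [Group G] {L : List G} {n : Nat} {ρ : G →* Equiv.Perm (Fin n)}
  {Tb Par : Nat → Nat} {zw uw : List Nat} {o : Fin n}

namespace Class

variable (hc : Class L ρ Tb zw o)
include hc

theorem any_beq {l : List Nat} {x : Nat} (h : l.any (Nat.beq x) = true) : x ∈ l := by
  obtain ⟨y, hy, e⟩ := List.any_eq_true.mp h
  rwa [Nat.eq_of_beq_eq_true e]

theorem fixes_dag {k : Nat} (hk : k = L.length) {g : G} :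
    ∀ (dag : List (Nat × Nat × Nat)) (known targets : List Nat),
      checkDag Tb Par zw k n dag known targets = true →
      (∀ x ∈ known, ∀ h : x < n, ρ g ⟨x, h⟩ = ⟨x, h⟩) → (∀ x ∈ known, x < n) →
      ∀ t ∈ targets, ∀ h : t < n, ρ g ⟨t, h⟩ = ⟨t, h⟩
  | [], known, targets, hd, hg, _, t, ht, h => by
    rw [checkDag] at hd
    exact hg t (hc.any_beq (allList_iff.mp hd t ht)) h
  | (p, q, r) :: rest, known, targets, hd, hg, hb, t, ht, h => by
    rw [checkDag] at hd
    simp only [Bool.and_eq_true] at hd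
    obtain ⟨⟨⟨⟨⟨hp, hq⟩, hr⟩, hgo⟩, he⟩, hrest⟩ := hd
    have hp' := hb p (hc.any_beq hp)
    have hq' := hb q (hc.any_beq hq)
    have hr' : r < n := Nat.ble_eq.mp hr
    have e : ρ (hc.dT ⟨p, hp'⟩) ⟨q, hq'⟩ = ⟨r, hr'⟩ :=
      Fin.ext ((hc.sigv_eq _ _ (hk ▸ hgo)).trans (Nat.eq_of_beq_eq_true he))
    refine fixes_dag hk rest (r :: known) targets hrest (fun x hx h' => ?_) (fun x hx => ?_) t ht h
    · rcases List.mem_cons.mp hx with rfl | hx
      · rw [← e, hc.act_equiv, hg p (hc.any_beq hp) hp', hg q (hc.any_beq hq) hq']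
      · exact hg x hx h'
    · rcases List.mem_cons.mp hx with rfl | hx
      exacts [hr', hb x hx]

/-- Two cycles related by an element that commutes with `u` have equal tests. -/
theorem sep_false {k dn pr qi r : Nat} (hk : k = L.length) {C : Nat → Nat} {g : G}
    (hq : ∀ a < pr, ∃ (h1 : cy C pr qi a < n) (h2 : cy C pr r a < n),
      ρ g ⟨_, h1⟩ = ⟨_, h2⟩) (s : Sep)
    (hs : checkSep Tb Par zw k n dn C pr qi r s = true) : False := by
  subst hk
  have fix_iff : ∀ (i j : Fin n), (ρ (hc.dT i) j = j ↔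
      ρ (hc.dT (ρ g i)) (ρ g j) = ρ g j) := fun i j => by
    rw [← hc.act_equiv, EmbeddingLike.apply_eq_iff_eq]
  cases s with
  | pair a b =>
    simp only [checkSep, Bool.and_eq_true, Bool.not_eq_true', beq_eq_false_iff_ne, ne_eq] at hs
    obtain ⟨⟨⟨ha, hb⟩, hgood⟩, hne⟩ := hs
    simp only [allList_iff, List.mem_cons, List.not_mem_nil, or_false, forall_eq_or_imp,
      forall_eq] at hgood
    obtain ⟨g1, g2, g3, g4⟩ := hgood
    have ha' : a < pr := Nat.ble_eq.mp ha
    have hb' : b < pr := Nat.ble_eq.mp hb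
    obtain ⟨p1, r1, e1⟩ := hq 0 (by omega)
    obtain ⟨p2, r2, e2⟩ := hq a ha'
    obtain ⟨p3, r3, e3⟩ := hq b hb'
    refine hne (Bool.eq_iff_iff.mpr ?_)
    simp only [fval, Nat.beq_eq]
    have z : ∀ (c : Nat) (hcn : c < n) (i : Fin n), good Tb Par L.length c = true →
        sigv Tb Par zw c i.val = (ρ (hc.dT ⟨c, hcn⟩) i : Nat) :=
      fun c hcn i hg => (hc.sigv_eq ⟨c, hcn⟩ i hg).symm
    rw [z _ r2 ⟨_, r3⟩ g2, z _ r1 _ g1, z _ p2 ⟨_, p3⟩ g4, z _ p1 _ g3, Fin.val_inj, Fin.val_inj,
      fix_iff ⟨_, p1⟩ (ρ (hc.dT ⟨_, p2⟩) ⟨_, p3⟩), hc.act_equiv g, e1, e2, e3]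
  | point p =>
    simp only [checkSep, Bool.and_eq_true] at hs
    obtain ⟨⟨hp, hgood⟩, hall⟩ := hs
    have hp' : p < n := Nat.ble_eq.mp hp
    have h := of_allBelow hall (ρ g ⟨p, hp'⟩).val (ρ g ⟨p, hp'⟩).isLt
    simp only [Bool.not_eq_true', ← Bool.not_eq_true] at h
    refine h (allList_iff.mpr fun a ha => beq_iff_eq.mpr (Bool.eq_iff_iff.mpr ?_))
    have hg2 := allList_iff.mp hgood a ha
    rw [Bool.and_eq_true] at hg2
    obtain ⟨g1, g2⟩ := hg2
    obtain ⟨p1, r1, e1⟩ := hq a (List.mem_range.mp ha)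
    simp only [pat, Nat.beq_eq]
    rw [← hc.sigv_eq ⟨_, r1⟩ _ g1, show sigv Tb Par zw (cy C pr qi a) p =
        (ρ (hc.dT ⟨_, p1⟩) ⟨p, hp'⟩ : Nat) from (hc.sigv_eq ⟨_, p1⟩ ⟨p, hp'⟩ g2).symm,
      show ((ρ (hc.dT ⟨_, p1⟩) ⟨p, hp'⟩ : Nat) = p) = ((ρ (hc.dT ⟨_, p1⟩) ⟨p, hp'⟩ : Nat) =
        ((⟨p, hp'⟩ : Fin n) : Nat)) from rfl,
      Fin.val_inj, Fin.val_inj, fix_iff ⟨_, p1⟩, e1]

/-- An involution that fixes the base point and commutes with `u`. -/
theorem eq_t_of_fix {pr qi k dn m dm : Nat} {C CI : Nat → Nat} {cert : Nat → Sep}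
    {dag : List (Nat × Nat × Nat)} {targets : List Nat}
    (hk : k = L.length) (huw : ∀ l ∈ uw, l < L.length) (hpr : Odd pr)
    (hu : ev L uw ^ pr = 1) (hu1 : ∀ a < pr, ev L uw ^ a = 1 → a = 0)
    (hut : ev L uw * ev L zw = ev L zw * ev L uw)
    (hcy : checkCycles Tb zw uw n dn m dm pr C CI = true)
    (hsep : checkSeps Tb Par zw k n dn m dm C pr qi cert = true)
    (hdag : checkDag Tb Par zw k n dag (0 :: (List.range pr).map (cy C pr qi)) targets = true)
    (hq : qi < m) (hqne : cy C pr qi 0 ≠ 0)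
    (hqfix : follow (tget Tb) (cy C pr qi 0) zw = cy C pr qi 0)
    (hgen : ∀ g : G, ρ g o = o → (∀ t ∈ targets, ∀ h : t < n, ρ g ⟨t, h⟩ = ⟨t, h⟩) →
      g = 1 ∨ g = ev L zw)
    {x : G} (hx2 : x * x = 1) (hx1 : x ≠ 1) (hxo : ρ x o = o)
    (hxu : x * ev L uw = ev L uw * x) : x = ev L zw := by
  set u := ev L uw with hudef
  set t := ev L zw with htdef
  have hp0 : 0 < pr := hpr.pos
  rw [checkCycles, cond_false_eq_true] at hcy
  have hcyc : ∀ r < m, ∀ a < pr, ∃ (h1 : cy C pr r a < n)
      (h2 : cy C pr r ((a + 1) % pr) < n), (ρ u)⁻¹ ⟨_, h1⟩ = ⟨_, h2⟩ := by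
    intro r hr a ha
    have h := allList_iff.mp (of_allBelow hcy.1 r hr) a (List.mem_range.mpr ha)
    rw [cond_false_eq_true] at h
    have h1 : cy C pr r a < n := Nat.ble_eq.mp h.1
    have hmod : cy C pr r (cond (Nat.beq (Nat.add a 1) pr) 0 (Nat.add a 1)) =
        cy C pr r ((a + 1) % pr) := by
      congr 1
      cases hb : Nat.beq (Nat.add a 1) pr
      · have : a + 1 ≠ pr := fun e => by
          rw [← e] at hb
          simp at hb
        simp only [cond_false]
        exact (Nat.mod_eq_of_lt (show a + 1 < pr by omega)).symm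
      · have e : a + 1 = pr := Nat.eq_of_beq_eq_true hb
        simp [e]
    have e2 : ((ρ u)⁻¹ ⟨_, h1⟩ : Fin n).val = cy C pr r ((a + 1) % pr) := by
      rw [hudef, hc.hm.follow_eq _ _ huw, ← hmod]
      exact Nat.eq_of_beq_eq_true h.2
    exact ⟨h1, e2 ▸ ((ρ u)⁻¹ ⟨_, h1⟩).isLt, Fin.ext e2⟩
  have hshift : ∀ r < m, ∀ a < pr, ∃ (h1 : cy C pr r 0 < n) (h2 : cy C pr r a < n),
      ρ (u⁻¹ ^ a) ⟨_, h1⟩ = ⟨_, h2⟩ := by
    intro r hr a
    induction a with
    | zero => intro h; obtain ⟨h1, -, -⟩ := hcyc r hr 0 h; exact ⟨h1, h1, by simp⟩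
    | succ a ih =>
      intro h
      obtain ⟨h1, h2, e⟩ := ih (by omega)
      obtain ⟨_, h4, e'⟩ := hcyc r hr a (by omega)
      have hm' : (a + 1) % pr = a + 1 := Nat.mod_eq_of_lt h
      simp only [hm'] at h4 e'
      refine ⟨h1, h4, ?_⟩
      rw [pow_succ', map_mul, Equiv.Perm.mul_apply, e, map_inv]
      exact e'
  -- the image of the chosen point
  obtain ⟨hq0, -, -⟩ := hshift qi hq 0 hp0
  have hxt : x * t = t * x := (hc.commute_t_iff x).mpr hxo
  have hfix : ρ t ⟨_, hq0⟩ = ⟨_, hq0⟩ := (hc.hm.fix_iff hc.hz).mpr hqfix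
  set j := ρ x ⟨_, hq0⟩ with hj
  have hjf : ρ t j = j := by
    rw [hj, ← Equiv.Perm.mul_apply, ← map_mul, ← hxt, map_mul, Equiv.Perm.mul_apply, hfix]
  have hj0 : j.val ≠ 0 := by
    intro e
    have : j = o := Fin.ext (e.trans hc.ho.symm)
    rw [hj] at this
    exact hqne (by
      have h2 := congrArg Fin.val ((ρ x).injective (this.trans hxo.symm))
      exact h2.trans hc.ho)
  have hc2 := of_allBelow hcy.2 j.val j.isLt
  have hb0 : Nat.beq j.val 0 = false := by
    rw [← Bool.not_eq_true, Nat.beq_eq]; exact hj0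
  have hb1 : Nat.beq (follow (tget Tb) j.val zw) j.val = true := by
    rw [Nat.beq_eq, ← hc.hm.follow_eq zw j hc.hz, ← htdef,
      show (ρ t)⁻¹ = ρ t from by have h := hc.sig_symm o; rwa [hc.dT_o] at h, hjf]
  rw [hb0, cond_false, hb1, cond_true, cond_false_eq_true, cond_false_eq_true] at hc2
  obtain ⟨hr, ha, he⟩ := hc2
  set r := field (CI j.val) 0
  set a := field (CI j.val) 1
  have hr' : r < m := Nat.ble_eq.mp hr
  have ha' : a < pr := Nat.ble_eq.mp ha
  -- the corrected element
  set y := u ^ a * x with hy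
  have hyu : y * u⁻¹ = u⁻¹ * y := by
    have hcx : Commute x u⁻¹ := (show Commute x u from hxu).inv_right
    exact ((Commute.refl u).inv_right.pow_left a).mul_left hcx
  obtain ⟨r0, ra, era⟩ := hshift r hr' a ha'
  have hy0 : ρ y ⟨_, hq0⟩ = ⟨_, r0⟩ := by
    rw [hy, map_mul, Equiv.Perm.mul_apply, ← hj,
      show j = ⟨_, ra⟩ from Fin.ext (Nat.eq_of_beq_eq_true he).symm, ← era,
      ← Equiv.Perm.mul_apply, ← map_mul, inv_pow, mul_inv_cancel, map_one, Equiv.Perm.one_apply]
  have hall : ∀ b < pr, ∃ (h1 : cy C pr qi b < n) (h2 : cy C pr r b < n),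
      ρ y ⟨_, h1⟩ = ⟨_, h2⟩ := by
    intro b hb
    obtain ⟨_, q2, e⟩ := hshift qi hq b hb
    obtain ⟨_, r2, e'⟩ := hshift r hr' b hb
    refine ⟨q2, r2, ?_⟩
    rw [← e, ← e', ← Equiv.Perm.mul_apply, ← map_mul,
      show y * u⁻¹ ^ b = u⁻¹ ^ b * y from (show Commute y u⁻¹ from hyu).pow_right b,
      map_mul, Equiv.Perm.mul_apply, hy0]
  have hrq : r = qi := by
    by_contra hne
    have hs := of_allBelow hsep r hr'
    rw [show Nat.beq r qi = false from by rw [← Bool.not_eq_true, Nat.beq_eq]; exact hne,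
      cond_false] at hs
    exact hc.sep_false hk hall (cert r) hs
  have huo : ρ u o = o := (hc.commute_t_iff u).mp hut
  have hyo : ρ y o = o := by
    rw [hy, map_mul, Equiv.Perm.mul_apply, hxo, map_pow]
    exact (show Function.IsFixedPt (ρ u) o from huo).iterate a |> fun h => by
      rw [Equiv.Perm.coe_pow]; exact h
  have hyfix := hc.fixes_dag hk dag _ targets hdag (g := y) (fun b hb h => ?_) (fun b hb => ?_)
  rotate_left
  · rcases List.mem_cons.mp hb with rfl | hb
    · rwa [show (⟨0, h⟩ : Fin n) = o from Fin.ext hc.ho.symm]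
    obtain ⟨c, hcm, rfl⟩ := List.mem_map.mp hb
    obtain ⟨_, _, e⟩ := hall c (List.mem_range.mp hcm)
    exact e.trans (Fin.ext (show cy C pr r c = cy C pr qi c by rw [hrq]))
  · rcases List.mem_cons.mp hb with rfl | hb
    · exact hc.ho ▸ o.isLt
    obtain ⟨c, hcm, rfl⟩ := List.mem_map.mp hb
    exact (hall c (List.mem_range.mp hcm)).1
  have htt : t * t = 1 := by
    rw [← pow_two, ← hc.order_t]; exact pow_orderOf_eq_one _
  have hy2 : y * y = u ^ (a + a) := by
    have hcx : Commute x (u ^ a) := (show Commute x u from hxu).pow_right a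
    rw [hy, mul_assoc, ← mul_assoc x, hcx.eq, mul_assoc, hx2, mul_one, pow_add]
  have hy1 : y * y = 1 := by
    rcases hgen y hyo hyfix with h | h <;> rw [h] <;> simp [htt]
  have ha0 : a = 0 := by
    rcases Nat.lt_or_ge (a + a) pr with h | h
    · have := hu1 _ h (hy2 ▸ hy1); omega
    · have h3 : u ^ (a + a - pr) = 1 := by
        have := hy2 ▸ hy1
        rwa [← Nat.sub_add_cancel h, pow_add, hu, mul_one] at this
      have := hu1 _ (by omega) h3
      obtain ⟨c, hc'⟩ := hpr
      omega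
  have hxy : x = y := by rw [hy, ha0, pow_zero, one_mul]
  rcases hgen y hyo hyfix with h | h
  · exact absurd (hxy.trans h) hx1
  · exact hxy.trans h

end Class

end CfsgLib.Coset.TransOut
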